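import Groth.Agent.L27.LimCoh.HMaps
import Groth.Agent.L27.Colim.FreeSheaf
import Groth.Agent.L27.EtSite.Points
import Mathlib.CategoryTheory.Sites.LeftExact
import Mathlib.CategoryTheory.Sites.SheafOfTypes
import Mathlib.AlgebraicGeometry.Restrict
import Mathlib.AlgebraicGeometry.Morphisms.OpenImmersion

/-! # The short exact sequence of a covering by two open subschemes -/

universe u

open CategoryTheory CategoryTheory.Limits AlgebraicGeometry Opposite CategoryTheory.Abelian

set_option backward.isDefEq.respectTransparency.types false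
set_option linter.style.haveILetI false
set_option linter.unusedSectionVars false
set_option linter.unusedVariables false

namespace Groth.L27.MV

open LimCoh

variable {X : Scheme.{u}}

/-- The etale scheme of an open subscheme. -/
noncomputable abbrev oE (W : X.Opens) : X.Etale := Scheme.Etale.mk W.ι

/-- The inclusion of open subschemes. -/
noncomputable def oHom {W W' : X.Opens} (h : W ≤ W') : oE W ⟶ oE W' :=
  MorphismProperty.Over.homMk (X.homOfLE h) (X.homOfLE_ι h)

/-- The morphism to the top object. -/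
noncomputable def oTop (W : X.Opens) : oE W ⟶ EtCoh.top X :=
  (EtCore.topIsTerminal X).from _

theorem hom_oE_subsingleton {W : X.Opens} {Z : X.Etale} (a b : Z ⟶ oE W) : a = b :=
  MorphismProperty.Over.Hom.ext ((cancel_mono W.ι).1
    ((MorphismProperty.Over.w a).trans (MorphismProperty.Over.w b).symm))

/-- The map of free sheaves of a morphism. -/
noncomputable def freeMap {V V' : X.Etale} (m : V ⟶ V') : Colim.freeSh V ⟶ Colim.freeSh V' :=
  (Colim.homEquiv V _).symm ((Colim.freeSh V').obj.map m.op (Colim.univ V'))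

theorem homEquiv_freeMap_comp {V V' : X.Etale} (m : V ⟶ V') {F : EtCoh.Ab X} (φ : Colim.freeSh V' ⟶ F) :
    Colim.homEquiv V F (freeMap m ≫ φ) = F.obj.map m.op (Colim.homEquiv V' F φ) := by
  rw [Colim.homEquiv_comp, freeMap, AddEquiv.apply_symm_apply]
  exact NatTrans.naturality_apply φ.hom m.op _

theorem mono_freeMap {V V' : X.Etale} (m : V ⟶ V') [Mono m] : Mono (freeMap m) := by
  let q : Colim.freePre V ⟶ Colim.freePre V' :=
    Functor.whiskerRight (Functor.whiskerRight (yoneda.map m) uliftFunctor.{u + 1, u}) AddCommGrpCat.free.{u + 1}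
  haveI : ∀ T, Mono (q.app T) := fun T => by
    refine (AddCommGrpCat.mono_iff_injective _).2 ?_
    show Function.Injective (FreeAbelianGroup.map _)
    intro a b hab
    refine (FreeAbelianGroup.equivFinsupp _).injective ?_
    have hinj : Function.Injective (uliftFunctor.{u + 1, u}.map ((yoneda.map m).app T)) := fun x y hxy =>
      ULift.ext _ _ ((cancel_mono m).1 (congrArg ULift.down hxy))
    exact Finsupp.mapDomain_injective hinj ((mapDomain_equivFinsupp _ a).trans
      ((congrArg (FreeAbelianGroup.equivFinsupp _) hab).trans (mapDomain_equivFinsupp _ b).symm))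
  haveI : Mono q := NatTrans.mono_of_mono_app _
  have e : freeMap m = (presheafToSheaf X.smallEtaleTopology AddCommGrpCat.{u + 1}).map q := by
    refine (Colim.homEquiv V _).injective ?_
    rw [freeMap, AddEquiv.apply_symm_apply]
    show (Colim.freeSh V').obj.map m.op (Colim.univ V') =
      ((presheafToSheaf X.smallEtaleTopology AddCommGrpCat.{u + 1}).map q).hom.app (op V) (Colim.univ V)
    refine Eq.trans (NatTrans.naturality_apply (toSheafify X.smallEtaleTopology (Colim.freePre V')) m.op _).symm ?_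
    refine Eq.trans ?_ (congr($(toSheafify_naturality X.smallEtaleTopology q).app (op V) _))
    refine congrArg ((toSheafify X.smallEtaleTopology (Colim.freePre V')).app (op V)) ?_
    refine (FreeAbelianGroup.map_of_apply _).trans (Eq.trans ?_ (FreeAbelianGroup.map_of_apply _).symm)
    exact congrArg FreeAbelianGroup.of (congrArg ULift.up ((Category.comp_id m).trans (Category.id_comp m).symm))
  rw [e]
  infer_instance
where
  mapDomain_equivFinsupp {α β : Type (u + 1)} (g : α → β) (a : FreeAbelianGroup α) :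
      Finsupp.mapDomain g (FreeAbelianGroup.equivFinsupp α a) =
        FreeAbelianGroup.equivFinsupp β (FreeAbelianGroup.map g a) := by
    have e : (Finsupp.mapDomain.addMonoidHom g).comp (FreeAbelianGroup.equivFinsupp α).toAddMonoidHom =
        (FreeAbelianGroup.equivFinsupp β).toAddMonoidHom.comp (FreeAbelianGroup.map g) :=
      FreeAbelianGroup.lift_ext _ _ fun x => by simp [FreeAbelianGroup.map_of_apply]
    exact DFunLike.congr_fun e a

/-- Lifting into an open subscheme. -/
noncomputable def oLift {W : X.Opens} (T : X.Etale) (h : ∀ t : T.left, T.hom t ∈ W) : T ⟶ oE W :=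
  have hr : Set.range T.hom ⊆ Set.range W.ι := by
    rw [Scheme.Opens.range_ι]; rintro - ⟨t, rfl⟩; exact h t
  let l : T.left ⟶ (W : Scheme.{u}) := IsOpenImmersion.lift W.ι T.hom hr
  have hl : l ≫ W.ι = T.hom := IsOpenImmersion.lift_fac W.ι T.hom hr
  MorphismProperty.Over.homMk l hl

variable (U V : X.Opens)

theorem exists_glue (hUV : U ⊔ V = ⊤) (F : EtCoh.Ab X) (a : F.obj.obj (op (oE U))) (b : F.obj.obj (op (oE V)))
    (h : F.obj.map (oHom (inf_le_left : U ⊓ V ≤ U)).op a = F.obj.map (oHom (inf_le_right : U ⊓ V ≤ V)).op b) :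
    ∃! t : F.obj.obj (op (EtCoh.top X)), F.obj.map (oTop U).op t = a ∧ F.obj.map (oTop V).op t = b := by
  let Z : Bool → X.Etale := fun i => Bool.rec (oE V) (oE U) i
  let π : ∀ i, Z i ⟶ EtCoh.top X := fun i => (EtCore.topIsTerminal X).from _
  have hcov : Sieve.generate (Presieve.ofArrows Z π) ∈ X.smallEtaleTopology (EtCoh.top X) := by
    refine (EtSite.mem_topology_iff _).2 fun x => ?_
    rcases (show (x : X) ∈ U ⊔ V from hUV ▸ trivial) with hx | hx
    · exact ⟨oE U, π true, ⟨x, hx⟩, Sieve.le_generate _ _ _ (Presieve.ofArrows.mk true),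
        congr($((Category.comp_id _).symm.trans (MorphismProperty.Over.w (π true))) ⟨x, hx⟩)⟩
    · exact ⟨oE V, π false, ⟨x, hx⟩, Sieve.le_generate _ _ _ (Presieve.ofArrows.mk false),
        congr($((Category.comp_id _).symm.trans (MorphismProperty.Over.w (π false))) ⟨x, hx⟩)⟩
  have hs : Presieve.IsSheafFor (F.obj ⋙ forget AddCommGrpCat.{u + 1}) (Presieve.ofArrows Z π) :=
    (Presieve.isSheafFor_iff_generate _).2
      ((isSheaf_iff_isSheaf_of_type _ _).1 (Presheaf.isSheaf_comp_of_isSheaf _ _ _ F.property) _ hcov)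
  have hmix : ∀ {T : X.Etale} (g : T ⟶ oE U) (g' : T ⟶ oE V), F.obj.map g.op a = F.obj.map g'.op b := by
    intro T g g'
    let l : T ⟶ oE (U ⊓ V) := oLift T fun t => by
      have h1 : T.hom t ∈ Set.range U.ι := ⟨g.left t, congr($(MorphismProperty.Over.w g) t)⟩
      have h2 : T.hom t ∈ Set.range V.ι := ⟨g'.left t, congr($(MorphismProperty.Over.w g') t)⟩
      rw [Scheme.Opens.range_ι] at h1 h2
      exact ⟨h1, h2⟩
    rw [hom_oE_subsingleton g (l ≫ oHom inf_le_left), hom_oE_subsingleton g' (l ≫ oHom inf_le_right)]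
    exact (Functor.map_comp_apply F.obj _ _ a).trans ((congrArg (F.obj.map l.op) h).trans
      (Functor.map_comp_apply F.obj _ _ b).symm)
  let x : ∀ i, (F.obj ⋙ forget AddCommGrpCat.{u + 1}).obj (op (Z i)) := fun i => Bool.rec b a i
  obtain ⟨t, ht, htu⟩ := (Presieve.isSheafFor_arrows_iff _ _).1 hs x (fun i k T g g' _ => by
    rcases i with _ | _ <;> rcases k with _ | _
    · exact congrArg (fun l : T ⟶ oE V => F.obj.map l.op b) (hom_oE_subsingleton g g')
    · exact (hmix g' g).symm
    · exact hmix g g'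
    · exact congrArg (fun l : T ⟶ oE U => F.obj.map l.op a) (hom_oE_subsingleton g g'))
  refine ⟨t, ⟨ht true, ht false⟩, fun t' ht' => htu t' fun i => ?_⟩
  rcases i with _ | _
  · exact ht'.2
  · exact ht'.1

/-- The constant section one. -/
noncomputable def gen (X : Scheme.{u}) : (EtCoh.const X ℤ).obj.obj (op (EtCoh.top X)) :=
  secEq (EtCoh.const X ℤ) (Ext.mk₀ (𝟙 _))

theorem secEq_mk₀ {F : EtCoh.Ab X} (φ : EtCoh.const X ℤ ⟶ F) :
    secEq F (Ext.mk₀ φ) = φ.hom.app (op (EtCoh.top X)) (gen X) := by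
  rw [gen, ← secEq_map, EtSite.HF_map_apply, Ext.mk₀_comp_mk₀, Category.id_comp]

/-- The map to the constant sheaf. -/
noncomputable def toConst (W : X.Opens) : Colim.freeSh (oE W) ⟶ EtCoh.const X ℤ :=
  (Colim.homEquiv (oE W) _).symm ((EtCoh.const X ℤ).obj.map (oTop W).op (gen X))

theorem homEquiv_toConst_comp (W : X.Opens) {F : EtCoh.Ab X} (φ : EtCoh.const X ℤ ⟶ F) :
    Colim.homEquiv (oE W) F (toConst W ≫ φ) = F.obj.map (oTop W).op (secEq F (Ext.mk₀ φ)) := by
  rw [Colim.homEquiv_comp, toConst, AddEquiv.apply_symm_apply, secEq_mk₀]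
  exact NatTrans.naturality_apply φ.hom _ _

/-- The short complex of the covering. -/
noncomputable def mvE : ShortComplex (EtCoh.Ab X) :=
  ShortComplex.mk
    (biprod.lift (freeMap (oHom (inf_le_left : U ⊓ V ≤ U))) (-(freeMap (oHom (inf_le_right : U ⊓ V ≤ V)))))
    (biprod.desc (toConst U) (toConst V)) (by
      rw [biprod.lift_desc, Preadditive.neg_comp, ← sub_eq_add_neg, sub_eq_zero]
      refine (Colim.homEquiv _ _).injective ?_
      rw [homEquiv_freeMap_comp, homEquiv_freeMap_comp, toConst, toConst, AddEquiv.apply_symm_apply,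
        AddEquiv.apply_symm_apply]
      refine (Functor.map_comp_apply _ _ _ _).symm.trans (Eq.trans ?_ (Functor.map_comp_apply _ _ _ _))
      exact congrArg (fun l => (EtCoh.const X ℤ).obj.map (Quiver.Hom.op l) (gen X))
        ((EtCore.topIsTerminal X).hom_ext _ _))

/-- The two open subschemes give a short exact sequence. -/
theorem shortExact_mvE (hUV : U ⊔ V = ⊤) : (mvE U V).ShortExact := by
  have hsub : ∀ {F : EtCoh.Ab X} (φ φ' : EtCoh.const X ℤ ⟶ F),
      toConst U ≫ φ = toConst U ≫ φ' → toConst V ≫ φ = toConst V ≫ φ' → φ = φ' := by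
    intro F φ φ' h1 h2
    refine (Ext.mk₀_bijective _ _).1 ((secEq F).injective ?_)
    have e1 := congrArg (Colim.homEquiv (oE U) F) h1
    have e2 := congrArg (Colim.homEquiv (oE V) F) h2
    rw [homEquiv_toConst_comp, homEquiv_toConst_comp] at e1 e2
    refine (exists_glue U V hUV F (F.obj.map (oTop U).op (secEq F (Ext.mk₀ φ')))
      (F.obj.map (oTop V).op (secEq F (Ext.mk₀ φ'))) ?_).unique ⟨e1, e2⟩ ⟨rfl, rfl⟩
    refine (Functor.map_comp_apply _ _ _ _).symm.trans (Eq.trans ?_ (Functor.map_comp_apply _ _ _ _))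
    exact congrArg (fun l => F.obj.map (Quiver.Hom.op l) (secEq F (Ext.mk₀ φ')))
      ((EtCore.topIsTerminal X).hom_ext _ _)
  haveI hepi : Epi (mvE U V).g := ⟨fun φ φ' h => hsub φ φ'
    (by simpa [mvE] using congrArg (fun z => biprod.inl ≫ z) h)
    (by simpa [mvE] using congrArg (fun z => biprod.inr ≫ z) h)⟩
  haveI : Mono (mvE U V).f := by
    haveI : Mono (oHom (inf_le_right : U ⊓ V ≤ V)) := ⟨fun a b _ => hom_oE_subsingleton a b⟩
    haveI := mono_freeMap (oHom (inf_le_right : U ⊓ V ≤ V))
    haveI : Mono ((mvE U V).f ≫ biprod.snd) := by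
      have e : (mvE U V).f ≫ biprod.snd = -(freeMap (oHom (inf_le_right : U ⊓ V ≤ V))) := biprod.lift_snd _ _
      rw [e]
      exact ⟨fun a b h => (cancel_mono (freeMap (oHom (inf_le_right : U ⊓ V ≤ V)))).1
        (neg_injective (by rw [← Preadditive.comp_neg, ← Preadditive.comp_neg]; exact h))⟩
    exact mono_of_mono _ biprod.snd
  have key : ∀ {F : EtCoh.Ab X} (φ : Colim.freeSh (oE U) ⊞ Colim.freeSh (oE V) ⟶ F),
      biprod.lift (freeMap (oHom (inf_le_left : U ⊓ V ≤ U))) (-(freeMap (oHom (inf_le_right : U ⊓ V ≤ V)))) ≫ φ = 0 →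
      ∃ ψ : EtCoh.const X ℤ ⟶ F, biprod.desc (toConst U) (toConst V) ≫ ψ = φ := by
    intro F φ hφ
    have e : freeMap (oHom (inf_le_left : U ⊓ V ≤ U)) ≫ biprod.inl ≫ φ =
        freeMap (oHom (inf_le_right : U ⊓ V ≤ V)) ≫ biprod.inr ≫ φ := by
      rw [← sub_eq_zero, ← hφ]
      simp [biprod.lift_eq, sub_eq_add_neg]
    have e' := congrArg (Colim.homEquiv (oE (U ⊓ V)) F) e
    rw [homEquiv_freeMap_comp, homEquiv_freeMap_comp] at e'
    obtain ⟨t, ⟨ht1, ht2⟩, -⟩ := exists_glue U V hUV F _ _ e'
    obtain ⟨ψ, hψ⟩ := (Ext.mk₀_bijective _ _).2 ((secEq F).symm t)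
    refine ⟨ψ, ?_⟩
    have hs : secEq F (Ext.mk₀ ψ) = t := by rw [hψ, AddEquiv.apply_symm_apply]
    refine biprod.hom_ext' _ _ ((Colim.homEquiv _ _).injective ?_) ((Colim.homEquiv _ _).injective ?_)
    · rw [biprod.inl_desc_assoc,
        homEquiv_toConst_comp, hs, ht1]
    · rw [biprod.inr_desc_assoc,
        homEquiv_toConst_comp, hs, ht2]
  exact { exact := ShortComplex.exact_of_g_is_cokernel _ (CokernelCofork.IsColimit.ofπ' _ _ fun {F} φ hφ =>
    ⟨(key φ hφ).choose, (key φ hφ).choose_spec⟩) }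

end Groth.L27.MV
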