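import Mathlib.Algebra.Homology.DerivedCategory.Ext.ExactSequences

/-! # The long exact sequence of a two-term covering, abstractly -/

universe w v u w'

open CategoryTheory CategoryTheory.Limits CategoryTheory.Abelian

set_option linter.unusedSectionVars false
set_option linter.style.haveILetI false

namespace Groth.L27.MV

variable {C : Type u} [Category.{v} C] [Abelian C] [HasExt.{w} C] {P₁ P₂ P₃ P₄ : C}
  (a : P₁ ⟶ P₂) (b : P₁ ⟶ P₃) (c : P₂ ⟶ P₄) (d : P₃ ⟶ P₄) (zero : biprod.lift a (-b) ≫ biprod.desc c d = 0)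
  (hS : (ShortComplex.mk _ _ zero).ShortExact) (Y : C)
  {A B D : ℕ → Type w'} [∀ n, AddCommGroup (A n)] [∀ n, AddCommGroup (B n)] [∀ n, AddCommGroup (D n)]
  (eA : ∀ n, Ext P₂ Y n ≃+ A n) (eB : ∀ n, Ext P₃ Y n ≃+ B n) (eD : ∀ n, Ext P₁ Y n ≃+ D n)
  (rA : ∀ n, Ext P₄ Y n →+ A n) (rB : ∀ n, Ext P₄ Y n →+ B n) (dA : ∀ n, A n →+ D n) (dB : ∀ n, B n →+ D n)
  (hrA : ∀ n x, eA n ((Ext.mk₀ c).comp x (zero_add n)) = rA n x)
  (hrB : ∀ n x, eB n ((Ext.mk₀ d).comp x (zero_add n)) = rB n x)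
  (hdA : ∀ n x, dA n (eA n x) = eD n ((Ext.mk₀ a).comp x (zero_add n)))
  (hdB : ∀ n x, dB n (eB n x) = eD n ((Ext.mk₀ b).comp x (zero_add n)))

theorem f_comp (n : ℕ) (x : Ext P₂ Y n) (y : Ext P₃ Y n) :
    (Ext.mk₀ (biprod.lift a (-b))).comp
        ((Ext.mk₀ (biprod.fst : P₂ ⊞ P₃ ⟶ P₂)).comp x (zero_add n) +
          (Ext.mk₀ (biprod.snd : P₂ ⊞ P₃ ⟶ P₃)).comp y (zero_add n)) (zero_add n) =
      (Ext.mk₀ a).comp x (zero_add n) - (Ext.mk₀ b).comp y (zero_add n) := by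
  rw [Ext.comp_add, Ext.mk₀_comp_mk₀_assoc, Ext.mk₀_comp_mk₀_assoc, biprod.lift_fst, biprod.lift_snd,
    Ext.mk₀_neg, Ext.neg_comp, ← sub_eq_add_neg]

theorem biprod_ext (n : ℕ) (x : Ext (P₂ ⊞ P₃) Y n) :
    x = (Ext.mk₀ (biprod.fst : P₂ ⊞ P₃ ⟶ P₂)).comp ((Ext.mk₀ biprod.inl).comp x (zero_add n)) (zero_add n) +
      (Ext.mk₀ (biprod.snd : P₂ ⊞ P₃ ⟶ P₃)).comp ((Ext.mk₀ biprod.inr).comp x (zero_add n)) (zero_add n) := by
  rw [Ext.mk₀_comp_mk₀_assoc, Ext.mk₀_comp_mk₀_assoc, ← Ext.add_comp, ← Ext.mk₀_add, biprod.total,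
    Ext.mk₀_id_comp]

include hS hrA hrB hdA hdB in
/-- The long exact sequence. -/
theorem exists_delta :
    ∃ δ : ∀ n : ℕ, D n →+ Ext P₄ Y (n + 1),
      (AddMonoidHom.prod (rA 0) (rB 0)).ker = ⊥ ∧
      (∀ n, (AddMonoidHom.prod (rA (n + 1)) (rB (n + 1))).ker = (δ n).range) ∧
      (∀ n, ((dA n).comp (AddMonoidHom.fst _ _) - (dB n).comp (AddMonoidHom.snd _ _)).ker =
        (AddMonoidHom.prod (rA n) (rB n)).range) ∧
      (∀ n, (δ n).ker = ((dA n).comp (AddMonoidHom.fst _ _) - (dB n).comp (AddMonoidHom.snd _ _)).range) := by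
  have hd : ∀ n (x : Ext P₂ Y n) (y : Ext P₃ Y n),
      ((dA n).comp (AddMonoidHom.fst (A n) (B n)) - (dB n).comp (AddMonoidHom.snd (A n) (B n))) (eA n x, eB n y) =
        eD n ((Ext.mk₀ (biprod.lift a (-b))).comp ((Ext.mk₀ (biprod.fst : P₂ ⊞ P₃ ⟶ P₂)).comp x (zero_add n) +
          (Ext.mk₀ (biprod.snd : P₂ ⊞ P₃ ⟶ P₃)).comp y (zero_add n)) (zero_add n)) := fun n x y => by
    rw [f_comp, map_sub, AddMonoidHom.sub_apply]
    exact congrArg₂ (· - ·) (hdA n x) (hdB n y)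
  have hg : ∀ n (x : Ext P₄ Y n), rA n x = 0 → rB n x = 0 →
      (Ext.mk₀ (biprod.desc c d)).comp x (zero_add n) = 0 := fun n x h1 h2 => by
    rw [biprod_ext Y n ((Ext.mk₀ (biprod.desc c d)).comp x (zero_add n)), Ext.mk₀_comp_mk₀_assoc biprod.inl,
      Ext.mk₀_comp_mk₀_assoc biprod.inr, biprod.inl_desc, biprod.inr_desc,
      (eA n).injective ((hrA n x).trans (h1.trans (map_zero (eA n)).symm)),
      (eB n).injective ((hrB n x).trans (h2.trans (map_zero (eB n)).symm)), Ext.comp_zero, Ext.comp_zero, add_zero]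
  have hδ : ∀ n, ∃ δ : D n →+ Ext P₄ Y (n + 1), ∀ x, δ (eD n x) = hS.extClass.comp x (add_comm 1 n) :=
    fun n => ⟨(hS.extClass.precomp Y (add_comm 1 n)).comp (eD n).symm.toAddMonoidHom, fun x => by simp⟩
  choose δ hδ using hδ
  refine ⟨δ, ?_, fun n => ?_, fun n => ?_, fun n => ?_⟩
  · rw [eq_bot_iff]
    intro x hx
    obtain ⟨h1, h2⟩ := Prod.mk.injEq _ _ _ _ ▸ (AddMonoidHom.mem_ker.1 hx)
    haveI : Epi (biprod.desc c d) := hS.epi_g
    refine AddSubgroup.mem_bot.2 (Ext.precomp_mk₀_injective_of_epi Y (biprod.desc c d) ?_)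
    rw [map_zero]
    exact hg 0 x h1 h2
  · refine le_antisymm (fun x hx => ?_) ?_
    · obtain ⟨h1, h2⟩ := Prod.mk.injEq _ _ _ _ ▸ (AddMonoidHom.mem_ker.1 hx)
      obtain ⟨z, hz⟩ := Ext.contravariant_sequence_exact₃ hS Y x (hg (n + 1) x h1 h2) (add_comm 1 n)
      exact ⟨eD n z, (hδ n z).trans hz⟩
    · rintro - ⟨z, rfl⟩
      obtain ⟨z, rfl⟩ := (eD n).surjective z
      have h : (Ext.mk₀ (biprod.desc c d)).comp (δ n (eD n z)) (zero_add (n + 1)) = 0 := by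
        rw [hδ]
        exact hS.comp_extClass_assoc z _
      refine AddMonoidHom.mem_ker.2 (Prod.ext ?_ ?_)
      · show rA (n + 1) (δ n (eD n z)) = 0
        rw [← hrA, ← biprod.inl_desc c d, ← Ext.mk₀_comp_mk₀_assoc, h, Ext.comp_zero, map_zero]
      · show rB (n + 1) (δ n (eD n z)) = 0
        rw [← hrB, ← biprod.inr_desc c d, ← Ext.mk₀_comp_mk₀_assoc, h, Ext.comp_zero, map_zero]
  · refine le_antisymm ?_ ?_
    · rintro ⟨p, q⟩ hx
      obtain ⟨x, rfl⟩ := (eA n).surjective p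
      obtain ⟨y, rfl⟩ := (eB n).surjective q
      have h := (AddMonoidHom.mem_ker.1 hx)
      rw [hd] at h
      obtain ⟨z, hz⟩ := Ext.contravariant_sequence_exact₂ hS Y _ ((eD n).map_eq_zero_iff.1 h)
      refine ⟨z, Prod.ext ?_ ?_⟩
      · show rA n z = eA n x
        rw [← hrA, ← biprod.inl_desc c d, ← Ext.mk₀_comp_mk₀_assoc]
        refine congrArg (eA n) ((congrArg (fun t => Ext.comp (Ext.mk₀ biprod.inl) t (zero_add n)) hz).trans ?_)
        rw [Ext.comp_add, Ext.mk₀_comp_mk₀_assoc, Ext.mk₀_comp_mk₀_assoc, biprod.inl_fst, biprod.inl_snd,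
          Ext.mk₀_zero, Ext.zero_comp, add_zero, Ext.mk₀_id_comp]
      · show rB n z = eB n y
        rw [← hrB, ← biprod.inr_desc c d, ← Ext.mk₀_comp_mk₀_assoc]
        refine congrArg (eB n) ((congrArg (fun t => Ext.comp (Ext.mk₀ biprod.inr) t (zero_add n)) hz).trans ?_)
        rw [Ext.comp_add, Ext.mk₀_comp_mk₀_assoc, Ext.mk₀_comp_mk₀_assoc, biprod.inr_fst, biprod.inr_snd,
          Ext.mk₀_zero, Ext.zero_comp, zero_add, Ext.mk₀_id_comp]
    · rintro - ⟨z, rfl⟩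
      refine AddMonoidHom.mem_ker.2 ?_
      show dA n (rA n z) - dB n (rB n z) = 0
      rw [← hrA, ← hrB, hdA, hdB, ← map_sub, ← f_comp]
      refine (congrArg (eD n) ?_).trans (map_zero _)
      rw [Ext.mk₀_comp_mk₀_assoc biprod.fst, Ext.mk₀_comp_mk₀_assoc biprod.snd, ← Ext.add_comp, ← Ext.mk₀_add,
        ← biprod.desc_eq, Ext.mk₀_comp_mk₀_assoc, zero, Ext.mk₀_zero, Ext.zero_comp]
  · refine le_antisymm (fun p hp => ?_) ?_
    · obtain ⟨z, rfl⟩ := (eD n).surjective p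
      have h := AddMonoidHom.mem_ker.1 hp
      rw [hδ] at h
      obtain ⟨w, hw⟩ := Ext.contravariant_sequence_exact₁ hS Y z (add_comm 1 n) h
      refine ⟨(eA n ((Ext.mk₀ biprod.inl).comp w (zero_add n)), eB n ((Ext.mk₀ biprod.inr).comp w (zero_add n))), ?_⟩
      rw [hd, ← biprod_ext Y n w]
      exact congrArg (eD n) hw
    · rintro - ⟨⟨p, q⟩, rfl⟩
      obtain ⟨x, rfl⟩ := (eA n).surjective p
      obtain ⟨y, rfl⟩ := (eB n).surjective q
      refine AddMonoidHom.mem_ker.2 ?_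
      rw [hd, hδ]
      exact hS.extClass_comp_assoc _

end Groth.L27.MV
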