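import Groth.Agent.L27.MV.Compat
import Groth.Agent.L27.MV.LES

/-! # Mayer-Vietoris -/

universe u

open CategoryTheory CategoryTheory.Limits AlgebraicGeometry Opposite CategoryTheory.Abelian

set_option backward.isDefEq.respectTransparency.types false
set_option linter.style.haveILetI false
set_option linter.unusedSectionVars false

namespace Groth.L27.MV

variable {X : Scheme.{u}} (U : X.Opens) [PreservesFiniteLimits (EtCoh.pull U.ι)]

/-- Cohomology of an open subscheme is an Ext group. -/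
noncomputable def ΦEquiv (F : EtCoh.Ab X) (n : ℕ) :
    Ext (Colim.freeSh (oE U)) F n ≃+ EtCoh.H (U : Scheme.{u}) ((EtCoh.pull U.ι).obj F) n :=
  AddEquiv.ofBijective (Φ U F n) (Φ_bijective U n F)

theorem ΦEquiv_toConst (F : EtCoh.Ab X) (n : ℕ) (x : Ext (EtCoh.const X ℤ) F n) :
    ΦEquiv U F n ((Ext.mk₀ (toConst U)).comp x (zero_add n)) = EtCore.Hpull U.ι F n x :=
  Φ_toConst U n F x

theorem HpullVia_ΦEquiv {W : X.Opens} [PreservesFiniteLimits (EtCoh.pull W.ι)] (h : W ≤ U)
    [PreservesFiniteLimits (EtCoh.pull (X.homOfLE h))] (F : EtCoh.Ab X) (n : ℕ)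
    (x : Ext (Colim.freeSh (oE U)) F n) :
    EtCore.HpullVia (X.homOfLE h) U.ι W.ι (X.homOfLE_ι h) F n (ΦEquiv U F n x) =
      ΦEquiv W F n ((Ext.mk₀ (freeMap (oHom h))).comp x (zero_add n)) :=
  HpullVia_Φ h n F x

end Groth.L27.MV
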