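import Groth.Agent.L27.MV.Phi
import Groth.Agent.L27.MV.SES
import Groth.Agent.L27.LimCoh.StageSys
import Groth.Prelude.Def_EtLim

/-! # Compatibility of the Ext description with pullback maps -/

universe u

open CategoryTheory CategoryTheory.Limits AlgebraicGeometry Opposite CategoryTheory.Abelian

set_option backward.isDefEq.respectTransparency.types false
set_option linter.style.haveILetI false
set_option linter.unusedSectionVars false
set_option linter.unusedVariables false

namespace Groth.L27.MV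

open LimCoh

variable {X : Scheme.{u}}

theorem unique_to_bc (W U : X.Opens) {T : (W : Scheme.{u}).Etale} (a b : T ⟶ (EtCoh.bc W.ι).obj (oE U)) : a = b :=
  bc_hom_ext W.ι ((cancel_mono U.ι).1 ((Category.assoc _ _ _).trans
    ((congrArg (_ ≫ ·) (fstB_w W.ι (oE U))).trans (Eq.trans ((Category.assoc _ _ _).symm.trans
      ((congrArg (· ≫ W.ι) ((MorphismProperty.Over.w a).trans (MorphismProperty.Over.w b).symm)).trans
        (Category.assoc _ _ _))) ((congrArg (_ ≫ ·) (fstB_w W.ι (oE U))).symm.trans (Category.assoc _ _ _).symm)))))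

theorem res_restrict (W : X.Opens) {U : X.Etale} (m : oet W ⟶ U) (F : EtCoh.Ab X) (s : F.obj.obj (op U)) :
    res W F (F.obj.map m.op s) = ((EtCoh.pull W.ι).obj F).obj.map (qW W ≫ (EtCoh.bc W.ι).map m).op
      (((EtCoh.pullPushAdj W.ι).unit.app F).hom.app (op U) s) := by
  refine (congrArg (((EtCoh.pull W.ι).obj F).obj.map (qW W).op)
    (NatTrans.naturality_apply ((EtCoh.pullPushAdj W.ι).unit.app F).hom m.op s)).trans ?_
  exact (Functor.map_comp_apply ((EtCoh.pull W.ι).obj F).obj _ _ _).symm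

variable (W : X.Opens) [PreservesFiniteLimits (EtCoh.pull W.ι)]

theorem Φ_toConst (n : ℕ) : ∀ (F : EtCoh.Ab X) (x : EtCoh.H X F n),
    Φ W F n ((Ext.mk₀ (toConst W)).comp x (zero_add n)) = EtCore.Hpull W.ι F n x := by
  induction n with
  | zero =>
    intro F x
    obtain ⟨φ, rfl⟩ := (Ext.mk₀_bijective _ _).2 x
    refine (secEq _).injective ?_
    rw [Ext.mk₀_comp_mk₀, secEq_Φ, EtSite.Hpull_apply, secEq_HofPush, ← EtSite.HF_map_apply, secEq_map]
    refine (congrArg (res W F) (homEquiv_toConst_comp W φ)).trans ?_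
    refine (res_restrict W (oTop W) F _).trans ?_
    exact congrArg (fun l : EtCoh.top (W : Scheme.{u}) ⟶ (EtCoh.bc W.ι).obj (EtCoh.top X) =>
        ((EtCoh.pull W.ι).obj F).obj.map l.op
          (((EtCoh.pullPushAdj W.ι).unit.app F).hom.app (op (EtCoh.top X)) (secEq F (Ext.mk₀ φ))))
      ((EtCore.bcTopIsTerminal W.ι).hom_ext _ _)
  | succ n ih =>
    intro F x
    let E := ShortComplex.mk (Injective.ι F) (cokernel.π _) (cokernel.condition _)
    have hE : E.ShortExact :=
      { exact := ShortComplex.exact_of_g_is_cokernel _ (cokernelIsCokernel _) }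
    obtain ⟨y, rfl⟩ := exists_δH hE n x (eq_zero_of_injective (Injective.under F) n _)
    show Φ W E.X₁ (n + 1) _ = EtCore.Hpull W.ι E.X₁ (n + 1) (δH hE n y)
    rw [Hpull_δH W.ι hE, ← ih E.X₃ y, ← Φ_δ W hE]
    exact congrArg (Φ W E.X₁ (n + 1)) (Ext.comp_assoc _ _ _ (zero_add n) rfl (by omega)).symm

section Generic

variable {B Y Z : Scheme.{u}} (f : Z ⟶ Y) (g : Y ⟶ B) {k : Z ⟶ B} (w : f ≫ g = k)
  [PreservesFiniteLimits (EtCoh.pull f)]

theorem secEq_HpullVia (F : EtCoh.Ab B) {V : B.Etale} (s : F.obj.obj (op V)) (q : EtCoh.top Y ⟶ (EtCoh.bc g).obj V)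
    (e : EtCoh.H Y ((EtCoh.pull g).obj F) 0)
    (he : secEq _ e = ((EtCoh.pull g).obj F).obj.map q.op (((EtCoh.pullPushAdj g).unit.app F).hom.app (op V) s)) :
    secEq _ (EtCore.HpullVia f g k w F 0 e) =
      ((EtCoh.pull k).obj F).obj.map ((EtCore.bcTopIso f).inv ≫ (EtCoh.bc f).map q ≫ (split f g w).app V).op
        (((EtCoh.pullPushAdj k).unit.app F).hom.app (op V) s) := by
  refine (secEq_HpullThen f ((EtCoh.pull g).obj F) _ e).trans ?_
  rw [he]
  set t := ((EtCoh.pullPushAdj g).unit.app F).hom.app (op V) s with ht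
  refine (congrArg (((EtCoh.pull k).obj F).obj.map _)
    (NatTrans.naturality_apply (stageψ F f g w).hom q.op t)).trans ?_
  have hu' : (stageψ F f g w).hom.app (op ((EtCoh.bc g).obj V)) t =
      ((EtCoh.pull k).obj F).obj.map ((split f g w).app V).op (((EtCoh.pullPushAdj k).unit.app F).hom.app (op V) s) := by
    refine Eq.trans ?_ (congrArg _ (congrArg (fun m => m.hom.app (op V) s) (unit_stageψ F f g w)))
    refine Eq.trans ?_ (Functor.map_comp_apply ((EtCoh.pull k).obj F).obj ((join f g w).app V).op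
      ((split f g w).app V).op _)
    refine Eq.trans ?_ (congrArg (fun l => ((EtCoh.pull k).obj F).obj.map (Quiver.Hom.op l) _)
      (split_join f g w V)).symm
    exact (congr($(((EtCoh.pull k).obj F).obj.map_id _) _)).symm
  refine (congrArg (fun z => ((EtCoh.pull k).obj F).obj.map _ (((EtCoh.pull k).obj F).obj.map _ z)) hu').trans ?_
  refine (congrArg (((EtCoh.pull k).obj F).obj.map _) (Functor.map_comp_apply ((EtCoh.pull k).obj F).obj _ _ _).symm).trans ?_
  exact (Functor.map_comp_apply ((EtCoh.pull k).obj F).obj _ _ _).symm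

/-- The comparison as a morphism of short complexes. -/
noncomputable def compMap (E : ShortComplex (EtCoh.Ab B)) :
    (E.map (EtCoh.pull g)).map (EtCoh.pull f) ⟶ E.map (EtCoh.pull k) :=
  ShortComplex.homMk (((EtCore.pullComp f g).symm ≪≫ EtCore.pullCongr w).app E.X₁).hom
    (((EtCore.pullComp f g).symm ≪≫ EtCore.pullCongr w).app E.X₂).hom
    (((EtCore.pullComp f g).symm ≪≫ EtCore.pullCongr w).app E.X₃).hom
    (((EtCore.pullComp f g).symm ≪≫ EtCore.pullCongr w).hom.naturality E.f).symm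
    (((EtCore.pullComp f g).symm ≪≫ EtCore.pullCongr w).hom.naturality E.g).symm

theorem HpullVia_δH [PreservesFiniteLimits (EtCoh.pull g)] [PreservesFiniteLimits (EtCoh.pull k)]
    {E : ShortComplex (EtCoh.Ab B)} (hE : E.ShortExact) (n : ℕ) (e : EtCoh.H Y ((EtCoh.pull g).obj E.X₃) n) :
    EtCore.HpullVia f g k w E.X₁ (n + 1) (δH (hE.map_of_exact (EtCoh.pull g)) n e) =
      δH (hE.map_of_exact (EtCoh.pull k)) n (EtCore.HpullVia f g k w E.X₃ n e) :=
  HpullThen_δH f (hE.map_of_exact (EtCoh.pull g)) (hE.map_of_exact (EtCoh.pull k)) (compMap f g w E) n e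

end Generic

variable {W} {U : X.Opens} [PreservesFiniteLimits (EtCoh.pull U.ι)] (h : W ≤ U)
  [PreservesFiniteLimits (EtCoh.pull (X.homOfLE h))]

theorem HpullVia_Φ_zero (F : EtCoh.Ab X) (x : Ext (Colim.freeSh (oet U)) F 0) :
    EtCore.HpullVia (X.homOfLE h) U.ι W.ι (X.homOfLE_ι h) F 0 (Φ U F 0 x) =
      Φ W F 0 ((Ext.mk₀ (freeMap (oHom h))).comp x (zero_add 0)) := by
  obtain ⟨φ, rfl⟩ := (Ext.mk₀_bijective _ _).2 x
  refine (secEq _).injective ?_
  refine (secEq_HpullVia (X.homOfLE h) U.ι (X.homOfLE_ι h) F (φ.hom.app (op (oet U)) (Colim.univ (oet U))) (qW U)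
    _ (secEq_Φ U F φ)).trans ?_
  rw [Ext.mk₀_comp_mk₀, secEq_Φ]
  refine Eq.trans ?_ (congrArg (res W F) (homEquiv_freeMap_comp (oHom h) φ)).symm
  refine Eq.trans ?_ (res_restrict W (oHom h) F _).symm
  exact congrArg (fun l : EtCoh.top (W : Scheme.{u}) ⟶ (EtCoh.bc W.ι).obj (oE U) =>
      ((EtCoh.pull W.ι).obj F).obj.map l.op
        (((EtCoh.pullPushAdj W.ι).unit.app F).hom.app (op (oE U)) (φ.hom.app (op (oet U)) (Colim.univ (oet U)))))
    (unique_to_bc W U _ _)

theorem Φ_comp_δ {V : X.Opens} [PreservesFiniteLimits (EtCoh.pull V.ι)] {P : EtCoh.Ab X}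
    (a : Colim.freeSh (oet V) ⟶ P) {E : ShortComplex (EtCoh.Ab X)} (hE : E.ShortExact) (n : ℕ) (y : Ext P E.X₃ n) :
    Φ V E.X₁ (n + 1) ((Ext.mk₀ a).comp (y.comp hE.extClass rfl) (zero_add (n + 1))) =
      δH (hE.map_of_exact (EtCoh.pull V.ι)) n (Φ V E.X₃ n ((Ext.mk₀ a).comp y (zero_add n))) := by
  rw [← Φ_δ V hE]
  exact congrArg (Φ V E.X₁ (n + 1)) (Ext.comp_assoc _ _ _ (zero_add n) rfl (by omega)).symm

theorem HpullVia_Φ (n : ℕ) : ∀ (F : EtCoh.Ab X) (x : Ext (Colim.freeSh (oet U)) F n),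
    EtCore.HpullVia (X.homOfLE h) U.ι W.ι (X.homOfLE_ι h) F n (Φ U F n x) =
      Φ W F n ((Ext.mk₀ (freeMap (oHom h))).comp x (zero_add n)) := by
  induction n with
  | zero => exact HpullVia_Φ_zero h
  | succ n ih =>
    intro F x
    let E := ShortComplex.mk (Injective.ι F) (cokernel.π _) (cokernel.condition _)
    have hE : E.ShortExact :=
      { exact := ShortComplex.exact_of_g_is_cokernel _ (cokernelIsCokernel _) }
    haveI : Injective E.X₂ := inferInstanceAs (Injective (Injective.under F))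
    obtain ⟨y, rfl⟩ := Ext.covariant_sequence_exact₁ _ hE x (Ext.eq_zero_of_injective _) rfl
    exact (congrArg (EtCore.HpullVia (X.homOfLE h) U.ι W.ι (X.homOfLE_ι h) E.X₁ (n + 1)) (Φ_δ U hE n y)).trans
      ((HpullVia_δH (X.homOfLE h) U.ι (X.homOfLE_ι h) hE n _).trans
        ((congrArg (δH (hE.map_of_exact (EtCoh.pull W.ι)) n) (ih E.X₃ y)).trans
          (Φ_comp_δ (freeMap (oHom h)) hE n y).symm))

end Groth.L27.MV
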