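import Groth.Agent.L27.ExtZero.Restr
import Groth.Agent.L27.LimCoh.HMaps
import Groth.Agent.L27.Colim.FreeSheaf

/-! # Cohomology of an open subscheme as Ext from a free sheaf -/

universe u

open CategoryTheory CategoryTheory.Limits AlgebraicGeometry Opposite CategoryTheory.Abelian

set_option backward.isDefEq.respectTransparency.types false
set_option linter.style.haveILetI false
set_option linter.unusedSectionVars false
set_option linter.unusedVariables false

namespace Groth.L27.MV

open LimCoh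

variable {X : Scheme.{u}} (W : X.Opens)

/-- An open subscheme as an object of the small etale site. -/
noncomputable abbrev oet : X.Etale := Scheme.Etale.mk W.ι

/-- The graph of the inclusion. -/
noncomputable def qW : EtCoh.top (W : Scheme.{u}) ⟶ (EtCoh.bc W.ι).obj (oet W) :=
  lift W.ι (V := oet W) (T := EtCoh.top (W : Scheme.{u})) (𝟙 (W : Scheme.{u})) rfl

/-- The comparison of the two descriptions of the top object. -/
noncomputable def topW : (EtShriek.compEtale W.ι).obj (EtCoh.top (W : Scheme.{u})) ⟶ oet W :=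
  MorphismProperty.Over.homMk (𝟙 (W : Scheme.{u})) rfl

instance : IsIso (topW W) := by
  refine ⟨MorphismProperty.Over.homMk (𝟙 (W : Scheme.{u}))
    ((Category.id_comp ((𝟙 (W : Scheme.{u})) ≫ W.ι)).trans (Category.id_comp _)), ?_, ?_⟩
  · exact MorphismProperty.Over.Hom.ext (Category.id_comp _)
  · exact MorphismProperty.Over.Hom.ext (Category.id_comp _)

theorem comp_qW_epsE : (EtShriek.compEtale W.ι).map (qW W) ≫ ExtZero.epsE W.ι (oet W) = topW W :=
  MorphismProperty.Over.Hom.ext (lift_fstB _ _ _)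

/-- Restriction of a section to the open subscheme. -/
noncomputable def res (F : EtCoh.Ab X) :
    F.obj.obj (op (oet W)) →+ ((EtCoh.pull W.ι).obj F).obj.obj (op (EtCoh.top (W : Scheme.{u}))) :=
  (((EtCoh.pull W.ι).obj F).obj.map (qW W).op).hom.comp
    (((EtCoh.pullPushAdj W.ι).unit.app F).hom.app (op (oet W))).hom

theorem res_nat {F G : EtCoh.Ab X} (φ : F ⟶ G) (s : F.obj.obj (op (oet W))) :
    res W G (φ.hom.app (op (oet W)) s) =
      ((EtCoh.pull W.ι).map φ).hom.app (op (EtCoh.top (W : Scheme.{u}))) (res W F s) := by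
  refine Eq.trans ?_ (NatTrans.naturality_apply ((EtCoh.pull W.ι).map φ).hom (qW W).op _).symm
  exact congrArg (((EtCoh.pull W.ι).obj G).obj.map (qW W).op)
    (congrArg (fun m : F ⟶ (EtCoh.push W.ι).obj ((EtCoh.pull W.ι).obj G) => m.hom.app (op (oet W)) s)
      ((EtCoh.pullPushAdj W.ι).unit.naturality φ))

theorem res_bijective (F : EtCoh.Ab X) : Function.Bijective (res W F) := by
  have h : ∀ s, ((ExtZero.pullRestr W.ι).hom.app F).hom.app (op (EtCoh.top (W : Scheme.{u}))) (res W F s) =
      F.obj.map (topW W).op s := fun s => by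
    refine (NatTrans.naturality_apply ((ExtZero.pullRestr W.ι).hom.app F).hom (qW W).op _).trans ?_
    refine (congrArg (((EtShriek.restrAlong W.ι).obj F).obj.map (qW W).op)
      (ExtZero.pullRestr_unit_app W.ι F (oet W) s)).trans ?_
    refine (Functor.map_comp_apply F.obj _ _ s).symm.trans ?_
    exact congrArg (fun l => F.obj.map (Quiver.Hom.op l) s) (comp_qW_epsE W)
  haveI : IsIso (((ExtZero.pullRestr W.ι).hom.app F).hom.app (op (EtCoh.top (W : Scheme.{u})))) :=
    inferInstanceAs (IsIso (((sheafToPresheaf _ _).map ((ExtZero.pullRestr W.ι).hom.app F)).app _))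
  refine (Function.Bijective.of_comp_iff'
    (ConcreteCategory.bijective_of_isIso (((ExtZero.pullRestr W.ι).hom.app F).hom.app (op (EtCoh.top (W : Scheme.{u}))))) _).1 ?_
  rw [show (fun z => ((ExtZero.pullRestr W.ι).hom.app F).hom.app (op (EtCoh.top (W : Scheme.{u}))) z) ∘ res W F =
    fun s => F.obj.map (topW W).op s from funext h]
  exact ConcreteCategory.bijective_of_isIso (F.obj.map (topW W).op)

variable [PreservesFiniteLimits (EtCoh.pull W.ι)]

/-- The class of the universal section. -/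
noncomputable def e₀ : EtCoh.H (W : Scheme.{u}) ((EtCoh.pull W.ι).obj (Colim.freeSh (oet W))) 0 :=
  (secEq _).symm (res W _ (Colim.univ (oet W)))

/-- Cohomology of an open subscheme from Ext groups of the free sheaf. -/
noncomputable def Φ (F : EtCoh.Ab X) (n : ℕ) :
    Ext (Colim.freeSh (oet W)) F n →+ EtCoh.H (W : Scheme.{u}) ((EtCoh.pull W.ι).obj F) n :=
  AddMonoidHom.mk' (fun e => Ext.comp (e₀ W) (e.mapExactFunctor (EtCoh.pull W.ι)) (zero_add n))
    (fun e e' => by rw [Abelian.Ext.mapExactFunctor_add, Ext.comp_add])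

theorem Φ_apply (F : EtCoh.Ab X) (n : ℕ) (e : Ext (Colim.freeSh (oet W)) F n) :
    Φ W F n e = Ext.comp (e₀ W) (e.mapExactFunctor (EtCoh.pull W.ι)) (zero_add n) := rfl

theorem Φ_map {F G : EtCoh.Ab X} (φ : F ⟶ G) (n : ℕ) (e : Ext (Colim.freeSh (oet W)) F n) :
    Φ W G n (e.comp (Ext.mk₀ φ) (add_zero n)) =
      (EtCoh.HF (W : Scheme.{u}) n).map ((EtCoh.pull W.ι).map φ) (Φ W F n e) := by
  rw [EtSite.HF_map_apply, Φ_apply, Φ_apply, Ext.mapExactFunctor_comp, Ext.mapExactFunctor_mk₀]
  exact (Ext.comp_assoc_of_third_deg_zero _ _ _ _).symm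

theorem Φ_δ {E : ShortComplex (EtCoh.Ab X)} (hE : E.ShortExact) (n : ℕ)
    (e : Ext (Colim.freeSh (oet W)) E.X₃ n) :
    Φ W E.X₁ (n + 1) (e.comp hE.extClass rfl) = δH (hE.map_of_exact (EtCoh.pull W.ι)) n (Φ W E.X₃ n e) := by
  rw [δH_apply, Φ_apply, Φ_apply, Ext.mapExactFunctor_comp, Ext.mapExactFunctor_extClass]
  exact (Ext.comp_assoc _ _ _ (zero_add n) rfl (by omega)).symm

theorem secEq_Φ (F : EtCoh.Ab X) (φ : Colim.freeSh (oet W) ⟶ F) :
    secEq _ (Φ W F 0 (Ext.mk₀ φ)) = res W F (φ.hom.app (op (oet W)) (Colim.univ (oet W))) := by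
  rw [Φ_apply, Ext.mapExactFunctor_mk₀, ← EtSite.HF_map_apply, secEq_map, res_nat, e₀, AddEquiv.apply_symm_apply]

theorem Φ_bijective (n : ℕ) : ∀ F : EtCoh.Ab X, Function.Bijective (Φ W F n) := by
  induction n with
  | zero =>
    intro F
    have h : (fun z => secEq _ z) ∘ (Φ W F 0) ∘ (Ext.mk₀ : (Colim.freeSh (oet W) ⟶ F) → _) =
        (fun z => res W F z) ∘ fun φ => Colim.homEquiv (oet W) F φ := funext fun φ => secEq_Φ W F φ
    have hb : Function.Bijective ((fun z => secEq _ z) ∘ (Φ W F 0) ∘ (Ext.mk₀ : (Colim.freeSh (oet W) ⟶ F) → _)) := by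
      rw [h]; exact (res_bijective W F).comp (Colim.homEquiv (oet W) F).bijective
    exact (Function.Bijective.of_comp_iff _ (Ext.mk₀_bijective _ _)).1
      ((Function.Bijective.of_comp_iff' (secEq _).bijective _).1 hb)
  | succ n ih =>
    intro F
    let E := ShortComplex.mk (Injective.ι F) (cokernel.π _) (cokernel.condition _)
    have hE : E.ShortExact :=
      { exact := ShortComplex.exact_of_g_is_cokernel _ (cokernelIsCokernel _) }
    haveI : Injective E.X₂ := inferInstanceAs (Injective (Injective.under F))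
    haveI : Injective (E.map (EtCoh.pull W.ι)).X₂ := ExtZero.injective_pull W.ι E.X₂
    refine ⟨(injective_iff_map_eq_zero (Φ W E.X₁ (n + 1))).2 fun e he => ?_, fun y => ?_⟩
    · obtain ⟨x, rfl⟩ := Ext.covariant_sequence_exact₁ _ hE e (Ext.eq_zero_of_injective _) rfl
      rw [Φ_δ] at he
      obtain ⟨z, hz⟩ := exists_map_of_δH_eq_zero (hE.map_of_exact (EtCoh.pull W.ι)) n _ he
      obtain ⟨x', rfl⟩ := (ih E.X₂).2 z
      rw [show x = x'.comp (Ext.mk₀ E.g) (add_zero n) from (ih E.X₃).1 (hz.symm.trans (Φ_map W E.g n x').symm)]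
      exact (Ext.comp_assoc_of_second_deg_zero _ _ _ _).trans
        ((congrArg (fun t => Ext.comp x' t rfl) hE.comp_extClass).trans (Ext.comp_zero _ _ _ _ _))
    · obtain ⟨y', rfl⟩ := exists_δH (hE.map_of_exact (EtCoh.pull W.ι)) n y
        (eq_zero_of_injective _ n _)
      obtain ⟨x, rfl⟩ := (ih E.X₃).2 y'
      exact ⟨x.comp hE.extClass rfl, Φ_δ W hE n x⟩

end Groth.L27.MV
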